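import Cfsg.Agent.Spor.PX0
import Cfsg.Agent.Spor.LyK.D0
import Cfsg.Agent.Spor.LyE.D0

set_option autoImplicit false
set_option maxRecDepth 100000000
set_option Elab.async false

namespace Cfsg.Agent.Spor.LyW

theorem sw1 : LyE.D.symW 8 [[]] 1 = true := by decide +kernel

theorem sw3 : LyE.D.symW 8 [[6, 4, 0, 3, 3, 0, 3, 0, 2, 1], []] 3 = true := by decide +kernel

theorem sw4 : LyE.D.symW 8 [[7, 5, 6, 5, 1, 3, 3, 0, 2, 1], []] 4 = true := by decide +kernel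

theorem sw5 : LyE.D.symW 8 [[6, 3, 0, 3, 3, 0, 3, 0, 2, 1, 5], []] 5 = true := by decide +kernel

theorem wcz1_0 : band (lall (fun y => Nat.blt y 8) (lapp [0, 5, 7, 3, 1, 3, 5, 6, 3, 4, 0, 5, 2, 0] [7, 5, 1, 2, 5, 6, 0, 4])) (Nat.beq (PA.evw LyM.A LyM.TT (lapp [0, 5, 7, 3, 1, 3, 5, 6, 3, 4, 0, 5, 2, 0] (lapp (symWord 8 [[]]) [7, 5, 1, 2, 5, 6, 0, 4])) LyM.A.one) (PA.evw LyM.A LyK.TK [8, 0, 5, 6, 8, 0, 5, 6, 8, 0, 7, 12, 0, 7, 14, 0] LyM.A.one)) = true := by decide +kernel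

theorem wcz1_1 : band (lall (fun y => Nat.blt y 8) (lapp [4, 3, 3, 0, 0, 0, 4, 2] [5, 3, 0, 2, 2, 4])) (Nat.beq (PA.evw LyM.A LyM.TT (lapp [4, 3, 3, 0, 0, 0, 4, 2] (lapp (symWord 8 [[]]) [5, 3, 0, 2, 2, 4])) LyM.A.one) (PA.evw LyM.A LyK.TK [8] LyM.A.one)) = true := by decide +kernel

theorem wcz1_2 : band (lall (fun y => Nat.blt y 8) (lapp [2, 4, 7, 2, 5, 6, 0, 4, 2, 1, 3, 7, 5, 2, 7] [7, 2, 0, 5, 6, 4, 1, 3, 4, 0, 4])) (Nat.beq (PA.evw LyM.A LyM.TT (lapp [2, 4, 7, 2, 5, 6, 0, 4, 2, 1, 3, 7, 5, 2, 7] (lapp (symWord 8 [[]]) [7, 2, 0, 5, 6, 4, 1, 3, 4, 0, 4])) LyM.A.one) (PA.evw LyM.A LyK.TK [8, 0, 5, 6, 8, 0, 5, 6, 12, 0, 6, 14, 16, 8] LyM.A.one)) = true := by decide +kernel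

theorem wcz3_0 : band (lall (fun y => Nat.blt y 8) (lapp [6, 0, 5, 0, 3, 4, 6, 2, 0, 4, 0, 3, 5, 3] [4, 1, 2, 2, 5, 7, 3, 5, 1, 4])) (Nat.beq (PA.evw LyM.A LyM.TT (lapp [6, 0, 5, 0, 3, 4, 6, 2, 0, 4, 0, 3, 5, 3] (lapp (symWord 8 [[6, 4, 0, 3, 3, 0, 3, 0, 2, 1], []]) [4, 1, 2, 2, 5, 7, 3, 5, 1, 4])) LyM.A.one) (PA.evw LyM.A LyK.TK [8, 0, 6, 8, 5] LyM.A.one)) = true := by decide +kernel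

theorem wcz3_1 : band (lall (fun y => Nat.blt y 8) (lapp [6, 1, 4, 1, 3, 4, 6, 3, 0, 4, 2, 1, 3] [6, 5, 3, 4, 4, 6, 4, 6, 2, 4])) (Nat.beq (PA.evw LyM.A LyM.TT (lapp [6, 1, 4, 1, 3, 4, 6, 3, 0, 4, 2, 1, 3] (lapp (symWord 8 [[6, 4, 0, 3, 3, 0, 3, 0, 2, 1], []]) [6, 5, 3, 4, 4, 6, 4, 6, 2, 4])) LyM.A.one) (PA.evw LyM.A LyK.TK [16, 6, 14, 4, 17] LyM.A.one)) = true := by decide +kernel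

theorem wcz3_2 : band (lall (fun y => Nat.blt y 8) (lapp [4, 7, 5, 6, 2, 1, 3, 4, 3, 0, 3, 7, 5] [6, 5, 6, 5, 0, 5, 3, 5, 6, 2, 2, 4])) (Nat.beq (PA.evw LyM.A LyM.TT (lapp [4, 7, 5, 6, 2, 1, 3, 4, 3, 0, 3, 7, 5] (lapp (symWord 8 [[6, 4, 0, 3, 3, 0, 3, 0, 2, 1], []]) [6, 5, 6, 5, 0, 5, 3, 5, 6, 2, 2, 4])) LyM.A.one) (PA.evw LyM.A LyK.TK [8, 0, 6, 16, 7, 11] LyM.A.one)) = true := by decide +kernel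

theorem wcz4_0 : band (lall (fun y => Nat.blt y 8) (lapp [6, 0, 4, 0, 3, 4, 6, 2, 5, 1, 3, 0, 5, 2] [3, 4, 4, 3, 4, 6, 3, 5, 1, 4])) (Nat.beq (PA.evw LyM.A LyM.TT (lapp [6, 0, 4, 0, 3, 4, 6, 2, 5, 1, 3, 0, 5, 2] (lapp (symWord 8 [[7, 5, 6, 5, 1, 3, 3, 0, 2, 1], []]) [3, 4, 4, 3, 4, 6, 3, 5, 1, 4])) LyM.A.one) (PA.evw LyM.A LyK.TK [8, 0, 6, 14, 16] LyM.A.one)) = true := by decide +kernel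

theorem wcz4_1 : band (lall (fun y => Nat.blt y 8) (lapp [2, 4, 0, 4, 7, 1, 3, 3, 5, 7, 4, 0, 7] [1, 5, 3, 0, 2, 2, 4, 6, 0, 4])) (Nat.beq (PA.evw LyM.A LyM.TT (lapp [2, 4, 0, 4, 7, 1, 3, 3, 5, 7, 4, 0, 7] (lapp (symWord 8 [[7, 5, 6, 5, 1, 3, 3, 0, 2, 1], []]) [1, 5, 3, 0, 2, 2, 4, 6, 0, 4])) LyM.A.one) (PA.evw LyM.A LyK.TK [8, 0, 5, 6, 8, 0, 5, 7, 14, 0, 7, 12, 0, 6] LyM.A.one)) = true := by decide +kernel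

theorem wcz4_2 : band (lall (fun y => Nat.blt y 8) (lapp [4, 2, 0, 2, 5, 7, 2, 5, 3, 5, 5, 2, 7, 4, 1] [0, 4, 6, 5, 3, 1, 3, 5, 6, 1, 4])) (Nat.beq (PA.evw LyM.A LyM.TT (lapp [4, 2, 0, 2, 5, 7, 2, 5, 3, 5, 5, 2, 7, 4, 1] (lapp (symWord 8 [[7, 5, 6, 5, 1, 3, 3, 0, 2, 1], []]) [0, 4, 6, 5, 3, 1, 3, 5, 6, 1, 4])) LyM.A.one) (PA.evw LyM.A LyK.TK [8, 0, 5, 6, 8, 0, 5, 6, 8, 0, 7, 12, 17] LyM.A.one)) = true := by decide +kernel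

theorem wcz4_3 : band (lall (fun y => Nat.blt y 8) (lapp [6, 5, 3, 1, 5, 2, 2, 0, 5, 7, 4, 1, 2, 2] [6, 0, 4, 1, 2, 0, 5, 6, 3, 4])) (Nat.beq (PA.evw LyM.A LyM.TT (lapp [6, 5, 3, 1, 5, 2, 2, 0, 5, 7, 4, 1, 2, 2] (lapp (symWord 8 [[7, 5, 6, 5, 1, 3, 3, 0, 2, 1], []]) [6, 0, 4, 1, 2, 0, 5, 6, 3, 4])) LyM.A.one) (PA.evw LyM.A LyK.TK [8, 0, 5, 6, 8, 0, 5, 7, 14, 0, 13, 6] LyM.A.one)) = true := by decide +kernel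

theorem wcz4_4 : band (lall (fun y => Nat.blt y 8) (lapp [5, 5, 0, 3, 4, 0, 5, 6, 2, 5, 3, 5, 1, 5, 2] [6, 2, 5, 6, 5, 2, 4])) (Nat.beq (PA.evw LyM.A LyM.TT (lapp [5, 5, 0, 3, 4, 0, 5, 6, 2, 5, 3, 5, 1, 5, 2] (lapp (symWord 8 [[7, 5, 6, 5, 1, 3, 3, 0, 2, 1], []]) [6, 2, 5, 6, 5, 2, 4])) LyM.A.one) (PA.evw LyM.A LyK.TK [8, 0, 5, 6, 8, 0, 7, 11, 8, 0, 13] LyM.A.one)) = true := by decide +kernel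

theorem wcz4_5 : band (lall (fun y => Nat.blt y 8) (lapp [4, 3, 5, 2, 5, 3, 4, 6, 5, 3, 5, 3, 3, 6] [1, 4, 6, 5, 6, 2, 1, 4, 1, 4])) (Nat.beq (PA.evw LyM.A LyM.TT (lapp [4, 3, 5, 2, 5, 3, 4, 6, 5, 3, 5, 3, 3, 6] (lapp (symWord 8 [[7, 5, 6, 5, 1, 3, 3, 0, 2, 1], []]) [1, 4, 6, 5, 6, 2, 1, 4, 1, 4])) LyM.A.one) (PA.evw LyM.A LyK.TK [8, 0, 6, 11, 8, 0, 7, 14, 16, 12] LyM.A.one)) = true := by decide +kernel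

theorem wcz4_6 : band (lall (fun y => Nat.blt y 8) (lapp [5, 6, 1, 5, 3, 3, 1, 4, 2, 2, 7, 5] [6, 4, 3, 0, 4, 6, 3, 4, 1, 2, 4])) (Nat.beq (PA.evw LyM.A LyM.TT (lapp [5, 6, 1, 5, 3, 3, 1, 4, 2, 2, 7, 5] (lapp (symWord 8 [[7, 5, 6, 5, 1, 3, 3, 0, 2, 1], []]) [6, 4, 3, 0, 4, 6, 3, 4, 1, 2, 4])) LyM.A.one) (PA.evw LyM.A LyK.TK [16, 6] LyM.A.one)) = true := by decide +kernel

theorem wcz5_0 : band (lall (fun y => Nat.blt y 8) (lapp [4, 6, 3, 0, 4, 6, 4, 3, 0, 5, 1, 4, 6, 4, 2] [4, 4, 0, 4, 6, 4, 4, 3, 4])) (Nat.beq (PA.evw LyM.A LyM.TT (lapp [4, 6, 3, 0, 4, 6, 4, 3, 0, 5, 1, 4, 6, 4, 2] (lapp (symWord 8 [[6, 3, 0, 3, 3, 0, 3, 0, 2, 1, 5], []]) [4, 4, 0, 4, 6, 4, 4, 3, 4])) LyM.A.one) (PA.evw LyM.A LyK.TK [8, 0, 5, 6, 8, 5, 16, 14, 6, 16] LyM.A.one)) = true := by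 decide +kernel

theorem wcz5_1 : band (lall (fun y => Nat.blt y 8) (lapp [7, 2, 4, 0, 4, 6, 1, 2, 2, 5, 1, 7, 4, 7, 5] [2, 5, 6, 4, 6, 5, 0, 5, 6, 4])) (Nat.beq (PA.evw LyM.A LyM.TT (lapp [7, 2, 4, 0, 4, 6, 1, 2, 2, 5, 1, 7, 4, 7, 5] (lapp (symWord 8 [[6, 3, 0, 3, 3, 0, 3, 0, 2, 1, 5], []]) [2, 5, 6, 4, 6, 5, 0, 5, 6, 4])) LyM.A.one) (PA.evw LyM.A LyK.TK [8, 0, 6, 11, 15, 0] LyM.A.one)) = true := by decide +kernel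

theorem wcz5_2 : band (lall (fun y => Nat.blt y 8) (lapp [0, 4, 4, 7, 5, 2, 4, 6, 5, 7, 4, 3] [7, 2, 5, 3, 5, 6, 5, 0, 3, 4])) (Nat.beq (PA.evw LyM.A LyM.TT (lapp [0, 4, 4, 7, 5, 2, 4, 6, 5, 7, 4, 3] (lapp (symWord 8 [[6, 3, 0, 3, 3, 0, 3, 0, 2, 1, 5], []]) [7, 2, 5, 3, 5, 6, 5, 0, 3, 4])) LyM.A.one) (PA.evw LyM.A LyK.TK [8, 0, 11, 6, 14, 0, 6] LyM.A.one)) = true := by decide +kernel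

theorem crz : leq (PA.evs LyM.A LyM.TT [[0], [2], [5, 1, 5, 0, 4, 1, 4, 0], [6]]) (PA.evs LyM.A LyK.TK [[2], [4], [6], [0]]) = true := by decide +kernel

theorem wcx1_0 : band (lall (fun y => Nat.blt y 8) (lapp [3, 1, 2, 0, 4, 1, 5, 3, 0] [5, 2, 5])) (Nat.beq (PA.evw LyM.A LyM.TT (lapp [3, 1, 2, 0, 4, 1, 5, 3, 0] (lapp (symWord 8 [[]]) [5, 2, 5])) LyM.A.one) (PA.evw LyM.A LyK.TC [6] LyM.A.one)) = true := by decide +kernel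

theorem wcx1_1 : band (lall (fun y => Nat.blt y 8) (lapp [2, 5, 5, 3, 5, 0, 5, 3, 0, 0] [5, 2, 5, 0])) (Nat.beq (PA.evw LyM.A LyM.TT (lapp [2, 5, 5, 3, 5, 0, 5, 3, 0, 0] (lapp (symWord 8 [[]]) [5, 2, 5, 0])) LyM.A.one) (PA.evw LyM.A LyK.TC [6] LyM.A.one)) = true := by decide +kernel

theorem wcx3_0 : band (lall (fun y => Nat.blt y 8) (lapp [2, 1, 2, 2, 1, 2, 2] [0, 4, 2, 2, 0, 3])) (Nat.beq (PA.evw LyM.A LyM.TT (lapp [2, 1, 2, 2, 1, 2, 2] (lapp (symWord 8 [[6, 4, 0, 3, 3, 0, 3, 0, 2, 1], []]) [0, 4, 2, 2, 0, 3])) LyM.A.one) (PA.evw LyM.A LyK.TC [6, 4, 2, 6, 10] LyM.A.one)) = true := by decide +kernel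

theorem wcx3_1 : band (lall (fun y => Nat.blt y 8) (lapp [3, 1, 3, 3, 0, 2, 0] [3, 1, 5, 2, 0, 3])) (Nat.beq (PA.evw LyM.A LyM.TT (lapp [3, 1, 3, 3, 0, 2, 0] (lapp (symWord 8 [[6, 4, 0, 3, 3, 0, 3, 0, 2, 1], []]) [3, 1, 5, 2, 0, 3])) LyM.A.one) (PA.evw LyM.A LyK.TC [6, 4, 3, 3, 6, 0] LyM.A.one)) = true := by decide +kernel

theorem wcx4_0 : band (lall (fun y => Nat.blt y 8) (lapp [0, 4, 7, 0, 3, 4, 2, 5, 2, 7, 4, 2, 5, 1] [1, 2, 4, 6, 2, 2, 4])) (Nat.beq (PA.evw LyM.A LyM.TT (lapp [0, 4, 7, 0, 3, 4, 2, 5, 2, 7, 4, 2, 5, 1] (lapp (symWord 8 [[7, 5, 6, 5, 1, 3, 3, 0, 2, 1], []]) [1, 2, 4, 6, 2, 2, 4])) LyM.A.one) (PA.evw LyM.A LyK.TC [6, 4, 3, 3, 7, 4, 3, 6] LyM.A.one)) = true := by decide +kernel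

theorem wcx4_1 : band (lall (fun y => Nat.blt y 8) (lapp [5, 2, 5, 7, 4, 4, 3, 4, 2, 1, 1, 7, 5, 7, 5, 1] [5, 2, 5, 7, 1, 4, 3])) (Nat.beq (PA.evw LyM.A LyM.TT (lapp [5, 2, 5, 7, 4, 4, 3, 4, 2, 1, 1, 7, 5, 7, 5, 1] (lapp (symWord 8 [[7, 5, 6, 5, 1, 3, 3, 0, 2, 1], []]) [5, 2, 5, 7, 1, 4, 3])) LyM.A.one) (PA.evw LyM.A LyK.TC [6, 4, 6, 10, 0, 4, 7, 4] LyM.A.one)) = true := by decide +kernel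

theorem wcx5_0 : band (lall (fun y => Nat.blt y 8) (lapp [3, 1, 2, 1, 3, 0] [0, 2, 5, 0])) (Nat.beq (PA.evw LyM.A LyM.TT (lapp [3, 1, 2, 1, 3, 0] (lapp (symWord 8 [[6, 3, 0, 3, 3, 0, 3, 0, 2, 1, 5], []]) [0, 2, 5, 0])) LyM.A.one) (PA.evw LyM.A LyK.TC [6, 0, 4, 3, 3, 7] LyM.A.one)) = true := by decide +kernel

theorem wcx5_1 : band (lall (fun y => Nat.blt y 8) (lapp [0, 3, 4, 2, 4, 0, 3, 0, 0, 5] [0, 2, 5])) (Nat.beq (PA.evw LyM.A LyM.TT (lapp [0, 3, 4, 2, 4, 0, 3, 0, 0, 5] (lapp (symWord 8 [[6, 3, 0, 3, 3, 0, 3, 0, 2, 1, 5], []]) [0, 2, 5])) LyM.A.one) (PA.evw LyM.A LyK.TC [6, 4, 3, 5, 3, 6] LyM.A.one)) = true := by decide +kernel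

theorem crx : leq (PA.evs LyM.A LyM.TT [[2, 0, 3, 0, 3, 3, 1, 3], [3, 4, 3, 4, 2, 2], [6]]) (PA.evs LyM.A LyK.TC [[0], [2], [4]]) = true := by decide +kernel

end Cfsg.Agent.Spor.LyW
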