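import Cfsg.Agent.Spor.PX6
import Cfsg.Agent.Spor.LyK.Main
import Cfsg.Agent.Spor.LyS
import Cfsg.Agent.Spor.LyW.C0

set_option autoImplicit false
set_option maxRecDepth 100000000
set_option Elab.async false

namespace Cfsg.Agent.Spor.LyW

open LyK

noncomputable abbrev Y : DCtx LyE.D (ZMod 5) Ly3906.P LyM.H := LyR.Y LyM.pres
theorem witz1 : AllP (fun w => Y.Wit (gsub 5 (LyM.X.gen TK)) 1 (ev (atm 4 Ly3906.p) w)) [[7, 5, 1, 2, 5, 6, 0, 4], [5, 3, 0, 2, 2, 4], [7, 2, 0, 5, 6, 4, 1, 3, 4, 0, 4]] :=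
  AllP.cons ((LyR.hA LyM.pres).wit LyM.gens gTK memTK sw1 wcz1_0) (AllP.cons ((LyR.hA LyM.pres).wit LyM.gens gTK memTK sw1 wcz1_1) (AllP.cons ((LyR.hA LyM.pres).wit LyM.gens gTK memTK sw1 wcz1_2) (AllP.nil)))
theorem witz3 : AllP (fun w => Y.Wit (gsub 5 (LyM.X.gen TK)) 3 (ev (atm 4 Ly3906.p) w)) [[4, 1, 2, 2, 5, 7, 3, 5, 1, 4], [6, 5, 3, 4, 4, 6, 4, 6, 2, 4], [6, 5, 6, 5, 0, 5, 3, 5, 6, 2, 2, 4]] :=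
  AllP.cons ((LyR.hA LyM.pres).wit LyM.gens gTK memTK sw3 wcz3_0) (AllP.cons ((LyR.hA LyM.pres).wit LyM.gens gTK memTK sw3 wcz3_1) (AllP.cons ((LyR.hA LyM.pres).wit LyM.gens gTK memTK sw3 wcz3_2) (AllP.nil)))
theorem witz4 : AllP (fun w => Y.Wit (gsub 5 (LyM.X.gen TK)) 4 (ev (atm 4 Ly3906.p) w)) [[3, 4, 4, 3, 4, 6, 3, 5, 1, 4], [1, 5, 3, 0, 2, 2, 4, 6, 0, 4], [0, 4, 6, 5, 3, 1, 3, 5, 6, 1, 4], [6, 0, 4, 1, 2, 0, 5, 6, 3, 4], [6, 2, 5, 6, 5, 2, 4], [1, 4, 6, 5, 6, 2, 1, 4, 1, 4], [6, 4, 3, 0, 4, 6, 3, 4, 1, 2, 4]] :=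
  AllP.cons ((LyR.hA LyM.pres).wit LyM.gens gTK memTK sw4 wcz4_0) (AllP.cons ((LyR.hA LyM.pres).wit LyM.gens gTK memTK sw4 wcz4_1) (AllP.cons ((LyR.hA LyM.pres).wit LyM.gens gTK memTK sw4 wcz4_2) (AllP.cons ((LyR.hA LyM.pres).wit LyM.gens gTK memTK sw4 wcz4_3) (AllP.cons ((LyR.hA LyM.pres).wit LyM.gens gTK memTK sw4 wcz4_4) (AllP.cons ((LyR.hA LyM.pres).wit LyM.gens gTK memTK sw4 wcz4_5) (AllP.cons ((LyR.hA LyM.pres).wit LyM.gens gTK memTK sw4 wcz4_6) (AllP.nil)))))))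
theorem witz5 : AllP (fun w => Y.Wit (gsub 5 (LyM.X.gen TK)) 5 (ev (atm 4 Ly3906.p) w)) [[4, 4, 0, 4, 6, 4, 4, 3, 4], [2, 5, 6, 4, 6, 5, 0, 5, 6, 4], [7, 2, 5, 3, 5, 6, 5, 0, 3, 4]] :=
  AllP.cons ((LyR.hA LyM.pres).wit LyM.gens gTK memTK sw5 wcz5_0) (AllP.cons ((LyR.hA LyM.pres).wit LyM.gens gTK memTK sw5 wcz5_1) (AllP.cons ((LyR.hA LyM.pres).wit LyM.gens gTK memTK sw5 wcz5_2) (AllP.nil)))
theorem subz : (wsub 4 Ly3906.p [[0], [2], [5, 1, 5, 0, 4, 1, 4, 0], [6]]).map Y.ψ ≤ (gsub 5 (LyM.X.gen TK)) := by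
  rw [wsub_map (LyR.hψ LyM.pres), ← wsub_lt (N := 5) _ (by decide +kernel)]
  exact wsub_le (LyM.gens.mem_cross gTK memTK crz)
theorem elz : Y.ψ (ev (atm 4 Ly3906.p) [0, 0, 0, 0]) = LyM.X.el gt :=
  ((LyR.hA LyM.pres).ψ_ev (by decide)).trans LyK.elt.symm
theorem witx1 : AllP (fun w => Y.Wit (gsub 4 (LyM.X.gen TC)) 1 (ev (atm 4 Ly3906.p) w)) [[5, 2, 5], [5, 2, 5, 0]] :=
  AllP.cons ((LyR.hA LyM.pres).wit LyM.gens gTC memTC sw1 wcx1_0) (AllP.cons ((LyR.hA LyM.pres).wit LyM.gens gTC memTC sw1 wcx1_1) (AllP.nil))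
theorem witx3 : AllP (fun w => Y.Wit (gsub 4 (LyM.X.gen TC)) 3 (ev (atm 4 Ly3906.p) w)) [[0, 4, 2, 2, 0, 3], [3, 1, 5, 2, 0, 3]] :=
  AllP.cons ((LyR.hA LyM.pres).wit LyM.gens gTC memTC sw3 wcx3_0) (AllP.cons ((LyR.hA LyM.pres).wit LyM.gens gTC memTC sw3 wcx3_1) (AllP.nil))
theorem witx4 : AllP (fun w => Y.Wit (gsub 4 (LyM.X.gen TC)) 4 (ev (atm 4 Ly3906.p) w)) [[1, 2, 4, 6, 2, 2, 4], [5, 2, 5, 7, 1, 4, 3]] :=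
  AllP.cons ((LyR.hA LyM.pres).wit LyM.gens gTC memTC sw4 wcx4_0) (AllP.cons ((LyR.hA LyM.pres).wit LyM.gens gTC memTC sw4 wcx4_1) (AllP.nil))
theorem witx5 : AllP (fun w => Y.Wit (gsub 4 (LyM.X.gen TC)) 5 (ev (atm 4 Ly3906.p) w)) [[0, 2, 5, 0], [0, 2, 5]] :=
  AllP.cons ((LyR.hA LyM.pres).wit LyM.gens gTC memTC sw5 wcx5_0) (AllP.cons ((LyR.hA LyM.pres).wit LyM.gens gTC memTC sw5 wcx5_1) (AllP.nil))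
theorem subx : (wsub 4 Ly3906.p [[2, 0, 3, 0, 3, 3, 1, 3], [3, 4, 3, 4, 2, 2], [6]]).map Y.ψ ≤ (gsub 4 (LyM.X.gen TC)) := by
  rw [wsub_map (LyR.hψ LyM.pres), ← wsub_lt (N := 5) _ (by decide +kernel)]
  exact wsub_le (LyM.gens.mem_cross gTC memTC crx)
theorem elx : Y.ψ (ev (atm 4 Ly3906.p) [1, 3, 0, 2]) = LyM.X.el gx :=
  ((LyR.hA LyM.pres).ψ_ev (by decide)).trans LyK.elx.symm

end Cfsg.Agent.Spor.LyW
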